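import Groth.Agent.Lib.Fitting.Basic
import Mathlib.RingTheory.Smooth.StandardSmooth
import Mathlib.RingTheory.Smooth.StandardSmoothCotangent
import Mathlib.RingTheory.Kaehler.Polynomial
import Mathlib.RingTheory.Kaehler.Basic
import Mathlib.RingTheory.FiniteType

/-!
# Jacobian loci: outside `V(Fit_p Ω)` an algebra is locally a quotient of a standard smooth algebra
of relative dimension `p`.
-/

set_option autoImplicit false
set_option linter.all false
universe u

open Algebra

namespace GrothLib.JacLocus

/-- Localisation of a quotient of a polynomial ring at a Jacobian minor is standard smooth. -/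
theorem isStandardSmooth_localization {A : Type u} [CommRing A] {n m : ℕ}
    (v : Fin m → MvPolynomial (Fin n) A) (a : Fin m → Fin n) (ha : Function.Injective a) :
    Algebra.IsStandardSmoothOfRelativeDimension (n - m) A
      (Localization.Away (Ideal.Quotient.mk (Ideal.span (Set.range v))
        (Matrix.of fun i j => MvPolynomial.pderiv (a i) (v j)).det)) := by
  classical
  let P : PreSubmersivePresentation A (MvPolynomial (Fin n) A ⧸ Ideal.span (Set.range v)) (Fin n) (Fin m) :=
    PreSubmersivePresentation.naive a ha
  set δ := Ideal.Quotient.mk (Ideal.span (Set.range v))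
    (Matrix.of fun i j => MvPolynomial.pderiv (a i) (v j)).det with hδ
  let Q := PreSubmersivePresentation.localizationAway (Localization.Away δ) δ
  have hjac : P.jacobian = δ := by
    rw [PreSubmersivePresentation.jacobian_eq_jacobiMatrix_det, Generators.algebraMap_apply]
    have hM : P.jacobiMatrix = Matrix.of fun i j => MvPolynomial.pderiv (a i) (v j) := by
      ext i j; simp [P]
    rw [hM, hδ]
    have : (MvPolynomial.aeval P.val : MvPolynomial (Fin n) A →ₐ[A] _) = Ideal.Quotient.mkₐ A (Ideal.span (Set.range v)) :=
      MvPolynomial.algHom_ext fun i => by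
        rw [MvPolynomial.aeval_X]; rfl
    rw [this]; rfl
  have hu : IsUnit (Q.comp P).jacobian := by
    rw [PreSubmersivePresentation.comp_jacobian_eq_jacobian_smul_jacobian, Algebra.smul_def, IsUnit.mul_iff, hjac]
    refine ⟨IsLocalization.map_units _ (⟨δ, 1, by simp⟩ : Submonoid.powers δ), ?_⟩
    rw [PreSubmersivePresentation.localizationAway_jacobian]
    exact IsLocalization.map_units _ (⟨δ, 1, by simp⟩ : Submonoid.powers δ)
  refine SubmersivePresentation.isStandardSmoothOfRelativeDimension
    { toPreSubmersivePresentation := Q.comp P, jacobian_isUnit := hu } ?_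
  show (Q.comp P).dimension = n - m
  rw [PreSubmersivePresentation.dimension_comp_eq_dimension_add_dimension]
  have hQ : Q.dimension = 0 := Presentation.localizationAway_dimension_zero δ
  rw [hQ, zero_add]
  simp [Presentation.dimension]

section

variable {A B : Type u} [CommRing A] [CommRing B] [Algebra A B]

/-- If `B` is a quotient of a standard smooth algebra of relative dimension `p` then `Fit_p Ω = 1`. -/
theorem fitting_eq_top_of_surjective {C : Type u} [CommRing C] [Algebra A C] (p : ℕ)
    [Algebra.IsStandardSmoothOfRelativeDimension p A C] (ψ : C →ₐ[A] B) (hψ : Function.Surjective ψ) :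
    Fitt.ideal B (KaehlerDifferential A B) p = ⊤ := by
  cases subsingleton_or_nontrivial B with
  | inl h => exact Subsingleton.elim _ _
  | inr h =>
    letI := ψ.toRingHom.toAlgebra
    haveI : IsScalarTower A C B := IsScalarTower.of_algebraMap_eq fun x => (ψ.commutes x).symm
    haveI : Nontrivial C := ψ.toRingHom.domain_nontrivial
    haveI := Algebra.IsStandardSmoothOfRelativeDimension.isStandardSmooth p (R := A) (S := C)
    have hr := Algebra.IsStandardSmoothOfRelativeDimension.rank_kaehlerDifferential (R := A) (S := C) p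
    haveI : Module.Finite C (KaehlerDifferential A C) := Module.finite_of_rank_eq_nat hr
    let b := Module.finBasisOfFinrankEq C (KaehlerDifferential A C) (Module.finrank_eq_of_rank_eq hr)
    have hsurj : Function.Surjective (KaehlerDifferential.map A A C B) :=
      KaehlerDifferential.map_surjective_of_surjective A A C B hψ
    refine GrothLib.Fitting.ideal_eq_top_of_le (fun i => KaehlerDifferential.map A A C B (b i)) ?_ le_rfl
    refine eq_top_iff.2 fun z _ => ?_
    obtain ⟨w, rfl⟩ := hsurj z
    rw [← b.sum_repr w, map_sum]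
    refine Submodule.sum_mem _ fun i _ => ?_
    rw [map_smul, ← algebraMap_smul B (b.repr w i)]
    exact Submodule.smul_mem _ _ (Submodule.subset_span ⟨i, rfl⟩)

/-- Outside `V(Fit_p Ω)`, after inverting an element, a finite type algebra is a quotient of a
standard smooth algebra of relative dimension `p`. -/
theorem exists_standardSmooth_surjective [Algebra.FiniteType A B] (p : ℕ) (q : Ideal B) [q.IsPrime]
    (hp : ¬ Fitt.ideal B (KaehlerDifferential A B) p ≤ q) :
    ∃ h ∉ q, ∀ (Bh : Type u) [CommRing Bh] [Algebra B Bh] [IsLocalization.Away h Bh],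
      ∃ (C : Type u) (_ : CommRing C) (_ : Algebra A C) (ψ : C →+* Bh),
        Algebra.IsStandardSmoothOfRelativeDimension p A C ∧ Function.Surjective ψ ∧
          ψ.comp (algebraMap A C) = (algebraMap B Bh).comp (algebraMap A B) := by
  classical
  obtain ⟨n₀, π₀, hπ₀⟩ := Algebra.FiniteType.iff_quotient_mvPolynomial''.mp ‹Algebra.FiniteType A B›
  -- pad the variables so that there are at least `p` of them
  obtain ⟨n, π, hπ, hn⟩ : ∃ (n : ℕ) (π : MvPolynomial (Fin n) A →ₐ[A] B), Function.Surjective π ∧ p ≤ n := by
    refine ⟨n₀ + p, π₀.comp (MvPolynomial.aeval (Fin.append MvPolynomial.X 0)), ?_, by omega⟩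
    refine hπ₀.comp fun f => ⟨MvPolynomial.rename (Fin.castAdd p) f, ?_⟩
    show MvPolynomial.aeval (Fin.append MvPolynomial.X (0 : Fin p → MvPolynomial (Fin n₀) A))
      (MvPolynomial.rename (Fin.castAdd p) f) = f
    rw [MvPolynomial.aeval_rename]
    have : (Fin.append MvPolynomial.X (0 : Fin p → MvPolynomial (Fin n₀) A)) ∘ Fin.castAdd p = MvPolynomial.X :=
      funext fun i => Fin.append_left _ _ i
    rw [this, MvPolynomial.aeval_X_left_apply]
  letI := π.toRingHom.toAlgebra
  haveI : IsScalarTower A (MvPolynomial (Fin n) A) B := IsScalarTower.of_algebraMap_eq fun x => (π.commutes x).symm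
  let x : Fin n → KaehlerDifferential A B := fun i => KaehlerDifferential.D A B (π (MvPolynomial.X i))
  let c := (KaehlerDifferential.mvPolynomialBasis A (Fin n)).baseChange B
  let μ := KaehlerDifferential.mapBaseChange A (MvPolynomial (Fin n) A) B
  have hμ : ∀ i, μ (c i) = x i := by
    intro i
    simp [μ, c, x, KaehlerDifferential.mapBaseChange_tmul]
    rfl
  have hx : Submodule.span B (Set.range x) = ⊤ := by
    refine eq_top_iff.2 fun z _ => ?_
    obtain ⟨w, rfl⟩ := KaehlerDifferential.mapBaseChange_surjective A (MvPolynomial (Fin n) A) B hπ z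
    rw [← c.sum_repr w, map_sum]
    refine Submodule.sum_mem _ fun i _ => ?_
    rw [map_smul]
    exact Submodule.smul_mem _ _ (Submodule.subset_span ⟨i, (hμ i).symm⟩)
  -- relations among the differentials are gradients of equations
  have hrel : ∀ z ∈ GrothLib.Fitting.rel (R := B) x, ∃ f : MvPolynomial (Fin n) A, π f = 0 ∧
      ∀ i, z i = π (MvPolynomial.pderiv i f) := by
    intro z hz
    rw [GrothLib.Fitting.mem_rel] at hz
    have h0 : μ (∑ i, z i • c i) = 0 := by simp [map_sum, hμ, hz]
    obtain ⟨y, hy⟩ := (KaehlerDifferential.exact_kerCotangentToTensor_mapBaseChange A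
      (MvPolynomial (Fin n) A) B hπ _).mp h0
    obtain ⟨f, rfl⟩ := Ideal.toCotangent_surjective _ y
    refine ⟨f.1, f.2, fun i => ?_⟩
    rw [KaehlerDifferential.kerCotangentToTensor_toCotangent] at hy
    have := congrArg (fun w => c.repr w i) hy
    simp [c, Module.Basis.baseChange_repr_tmul, Finsupp.single_apply] at this
    rw [Algebra.smul_def, mul_one] at this
    exact this.symm
  obtain ⟨z, e, hz, hze⟩ : ∃ (z : Fin (n - p) → Fin n → B) (e : Fin (n - p) → Fin n),
      (∀ j, z j ∈ GrothLib.Fitting.rel (R := B) x) ∧ (Matrix.of fun a b => z b (e a)).det ∉ q := by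
    by_contra hcon
    push Not at hcon
    refine hp ?_
    rw [GrothLib.Fitting.ideal_eq_minors x hx, GrothLib.Fitting.minors_le_iff]
    exact hcon
  choose f hf hf' using fun j => hrel (z j) (hz j)
  have he : Function.Injective e := fun i j hij => by
    by_contra hne
    exact hze (by rw [Matrix.det_zero_of_row_eq hne (by funext b; simp [hij])]; exact q.zero_mem)
  set Δ := (Matrix.of fun i j => MvPolynomial.pderiv (e i) (f j)).det with hΔ
  have hπΔ : π Δ = (Matrix.of fun a b => z b (e a)).det := by
    rw [hΔ, AlgHom.map_det]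
    congr 1
    ext i j
    exact (hf' j (e i)).symm
  refine ⟨π Δ, by rw [hπΔ]; exact hze, fun Bh _ _ _ => ?_⟩
  let π' : MvPolynomial (Fin n) A ⧸ Ideal.span (Set.range f) →+* B :=
    Ideal.Quotient.lift _ π.toRingHom fun g hg => by
      have : Ideal.span (Set.range f) ≤ RingHom.ker π.toRingHom :=
        Ideal.span_le.2 (by rintro _ ⟨j, rfl⟩; exact hf j)
      exact this hg
  let δ := Ideal.Quotient.mk (Ideal.span (Set.range f)) Δ
  have hunit : IsUnit ((algebraMap B Bh).comp π' δ) :=
    IsLocalization.map_units Bh (⟨π Δ, 1, by simp⟩ : Submonoid.powers (π Δ))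
  let ψ : Localization.Away δ →+* Bh := IsLocalization.Away.lift δ hunit
  have hψ : ∀ g, ψ (algebraMap _ (Localization.Away δ) (Ideal.Quotient.mk _ g)) = algebraMap B Bh (π g) :=
    fun g => IsLocalization.Away.lift_eq δ hunit _
  refine ⟨Localization.Away δ, inferInstance, inferInstance, ψ, ?_, fun b => ?_, ?_⟩
  · have := isStandardSmooth_localization f e he
    rwa [show n - (n - p) = p by omega] at this
  · obtain ⟨⟨b₀, s⟩, hs⟩ := IsLocalization.surj (Submonoid.powers (π Δ)) b
    obtain ⟨k, hk⟩ := s.2
    obtain ⟨g, rfl⟩ := hπ b₀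
    refine ⟨IsLocalization.mk' (Localization.Away δ) (Ideal.Quotient.mk _ g) (⟨δ ^ k, k, rfl⟩ : Submonoid.powers δ), ?_⟩
    have hu : IsUnit (algebraMap B Bh s.1) := IsLocalization.map_units Bh s
    refine hu.mul_left_injective ?_
    show ψ _ * algebraMap B Bh s.1 = b * algebraMap B Bh s.1
    rw [hs, ← hψ, show algebraMap B Bh s.1 = ψ (algebraMap _ (Localization.Away δ) (δ ^ k)) by
      rw [← map_pow, hψ, map_pow, map_pow]; exact congrArg (algebraMap B Bh) hk.symm |>.trans (map_pow _ _ _),
      ← map_mul]
    exact congrArg ψ (IsLocalization.mk'_spec _ _ _)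
  · ext r
    simp only [RingHom.comp_apply]
    rw [IsScalarTower.algebraMap_apply A (MvPolynomial (Fin n) A ⧸ Ideal.span (Set.range f)) (Localization.Away δ),
      IsScalarTower.algebraMap_apply A (MvPolynomial (Fin n) A) (MvPolynomial (Fin n) A ⧸ Ideal.span (Set.range f))]
    exact (hψ _).trans (congrArg (algebraMap B Bh) (π.commutes r))

end

end GrothLib.JacLocus
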