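import Groth.Agent.Lib.FibreDimAt6.Smooth
import Groth.Agent.Lib.AlgSp.FieldFibreDim
import Groth.Agent.Lib.DimCut.Basic
import Groth.Agent.Lib.AlgMisc.GeomRegAt
import Groth.Agent.Lib.AlgMisc.SmoothRank
import Groth.Agent.Lib.CMFree.FiniteFlat

/-!
# A closed subscheme of full dimension of a smooth scheme over a field is smooth
-/

set_option autoImplicit false
set_option linter.style.haveILetI false
set_option backward.isDefEq.respectTransparency false

universe u

open CategoryTheory CategoryTheory.Limits AlgebraicGeometry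

namespace GrothLib.JacLocus

/-- A closed subscheme having the full local dimension at `z` of a smooth scheme over a field is smooth at `z`. -/
theorem mem_smoothLocus_of_closedImmersion {K : Type u} [Field K] {Z W : Scheme.{u}} (d : ℕ)
    (G : W ⟶ Spec (CommRingCat.of K)) [SmoothOfRelativeDimension d G] (j : Z ⟶ W) [IsClosedImmersion j]
    [LocallyOfFinitePresentation (j ≫ G)] (z : Z) (h : FlatMor.localDim Z z = (d : WithBot ℕ∞)) :
    z ∈ (j ≫ G).smoothLocus := by
  haveI : Smooth G := SmoothOfRelativeDimension.smooth d G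
  haveI : Subsingleton ↥(Spec (CommRingCat.of K)) := inferInstanceAs (Subsingleton (PrimeSpectrum K))
  haveI : LocallyOfFiniteType G := inferInstance
  haveI : IsLocallyNoetherian W := LocallyOfFiniteType.isLocallyNoetherian G
  haveI : IsLocallyNoetherian Z := LocallyOfFiniteType.isLocallyNoetherian (j ≫ G)
  have hz : j z ∈ G.smoothLocus := by rw [G.smoothLocus_eq_top]; trivial
  haveI := Groth.Agent.Lib.AlgMisc.GeomRegAt.isRegularLocalRing_stalk_of_mem_smoothLocus G hz
  haveI := GrothLib.CMFree.isDomain_of_isRegularLocalRing (W.presheaf.stalk (j z))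
  have hW : FlatMor.localDim W (j z) = (d : WithBot ℕ∞) := by
    rw [← GrothLib.AlgSp.fibreDimAt_eq_localDim_of_subsingleton G (j z)]
    exact GrothLib.FibreDimAt6.fibreDimAt_eq_of_smooth d G (j z)
  have hpt := GrothLib.DimCut.ptDim_immersion G j z
  obtain ⟨t, ht⟩ := GrothLib.AffDom.exists_nat_ptDim G (j z)
  rw [GrothLib.AffDom.localDim_eq G, ht] at hW
  rw [GrothLib.AffDom.localDim_eq (j ≫ G), hpt, ht] at h
  obtain ⟨a, ha⟩ := Groth.Agent.Lib.AlgMisc.SmoothRank.exists_dim_eq_nat (W.presheaf.stalk (j z))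
  obtain ⟨b, hb⟩ := Groth.Agent.Lib.AlgMisc.SmoothRank.exists_dim_eq_nat (Z.presheaf.stalk z)
  rw [ha] at hW
  rw [hb] at h
  have hab : a = b := by
    have h' := hW.trans h.symm
    norm_cast at h'
    omega
  have hsurj : Function.Surjective (j.stalkMap z).hom := j.stalkMap_surjective z
  have hinj : Function.Injective (j.stalkMap z).hom := by
    rw [injective_iff_map_eq_zero]
    intro x hx
    by_contra hx0
    let ψ : (W.presheaf.stalk (j z) ⧸ Ideal.span {x}) →+* Z.presheaf.stalk z :=
      Ideal.Quotient.lift _ (j.stalkMap z).hom fun y hy => by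
        obtain ⟨c, rfl⟩ := Ideal.mem_span_singleton'.mp hy
        rw [map_mul, hx, mul_zero]
    have h1 := ringKrullDim_le_of_surjective ψ (Ideal.Quotient.lift_surjective_of_surjective _ _ hsurj)
    have h2 := ringKrullDim_quotient_succ_le_of_nonZeroDivisor (mem_nonZeroDivisors_of_ne_zero hx0)
    have h3 : (b : WithBot ℕ∞) + 1 ≤ a := by
      rw [← hb, ← ha]
      exact (add_le_add h1 le_rfl).trans h2
    norm_cast at h3
    omega
  haveI : IsIso (j.stalkMap z) := (ConcreteCategory.isIso_iff_bijective _).2 ⟨hinj, hsurj⟩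
  rw [Scheme.Hom.mem_smoothLocus, Scheme.Hom.stalkMap_comp, CommRingCat.hom_comp]
  exact (RingHom.FormallySmooth.respectsIso.cancel_right_isIso _ (j.stalkMap z)).2 (G.mem_smoothLocus.1 hz)

end GrothLib.JacLocus
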