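import Groth.Agent.Lib.Fitting.Local
import Groth.Agent.Lib.SeqKinds.Basic
import Mathlib.RingTheory.Smooth.Local
import Mathlib.RingTheory.Smooth.Locus
import Mathlib.RingTheory.Smooth.StandardSmoothCotangent
import Mathlib.RingTheory.Etale.Kaehler
import Mathlib.LinearAlgebra.Dimension.Free

/-!
# Smoothness of a complete intersection and Fitting ideals of differentials

For a quotient of a smooth algebra of relative dimension `N` by `c` equations with `m + c = N`, the
fibre of `Ω` has dimension `≤ m` exactly at the smooth points, provided the equations are `H₁`-regular.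
-/

set_option autoImplicit false
set_option linter.style.haveILetI false
set_option backward.isDefEq.respectTransparency false

universe u

open TensorProduct IsLocalRing Algebra

noncomputable section

namespace GrothLib.JacLocus

/-- Coefficients of relations of an `H₁`-regular sequence lie in its ideal, also modulo the square. -/
theorem coeff_mem_of_sum_mem_sq {P : Type u} [CommRing P] {c : ℕ} (x : Fin c → P) (hx : CAlgX.IsH1Regular x)
    (a : Fin c → P) (ha : ∑ i, a i * x i ∈ Ideal.span (Set.range x) ^ 2) :
    ∀ i, a i ∈ Ideal.span (Set.range x) := by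
  let I := Ideal.span (Set.range x)
  let V : Submodule P (Fin c → P) := Submodule.pi Set.univ fun _ => I
  have hsyz : ∀ b : Fin c → P, ∑ i, b i * x i = 0 → b ∈ V := fun b hb => by
    refine Submodule.span_le.2 ?_ (hx b hb)
    rintro _ ⟨i, j, rfl⟩
    refine sub_mem ?_ ?_ <;> intro l _ <;> rw [Pi.single_apply] <;> split_ifs
    exacts [Ideal.subset_span ⟨_, rfl⟩, zero_mem _, Ideal.subset_span ⟨_, rfl⟩, zero_mem _]
  have hI : ∀ z ∈ I ^ 2, ∃ b : Fin c → P, (∀ i, b i ∈ I) ∧ ∑ i, b i * x i = z := by
    intro z hz
    rw [pow_two] at hz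
    induction hz using Submodule.mul_induction_on' with
    | mem_mul_mem u hu v hv =>
      obtain ⟨w, hw⟩ := (Ideal.mem_span_range_iff_exists_fun (R := P)).1 hv
      refine ⟨fun i => u * w i, fun i => I.mul_mem_right _ hu, ?_⟩
      rw [← hw, Finset.mul_sum]
      simp only [mul_assoc]
    | add y hy z hz ihy ihz =>
      obtain ⟨b, hb, rfl⟩ := ihy
      obtain ⟨b', hb', rfl⟩ := ihz
      exact ⟨b + b', fun i => add_mem (hb i) (hb' i), by simp [add_mul, Finset.sum_add_distrib]⟩
  obtain ⟨b, hb, hbx⟩ := hI _ ha
  intro i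
  have h0 : a - b ∈ V := hsyz (a - b) (by simp [sub_mul, hbx])
  have := add_mem (h0 i trivial) (hb i)
  simpa using this

section Local

variable {R P S : Type u} [CommRing R] [CommRing P] [CommRing S] [IsLocalRing S] [Algebra R P] [Algebra R S]
  [Algebra P S] [IsScalarTower R P S] [FormallySmooth R P]
  [Module.Free P Ω[P⁄R]] [Module.Finite P Ω[P⁄R]]

/-- The fibre dimension criterion at a local ring. -/
theorem formallySmooth_iff_finrank_le (hsurj : Function.Surjective (algebraMap P S)) {c N : ℕ}
    (x : Fin c → P) (hker : RingHom.ker (algebraMap P S) = Ideal.span (Set.range x))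
    (hreg : CAlgX.IsH1Regular x) (hN : Module.finrank P Ω[P⁄R] = N) (m : ℕ) (hm : m + c = N) :
    FormallySmooth R S ↔
      Module.finrank (ResidueField S) (ResidueField S ⊗[S] Ω[S⁄R]) ≤ m := by
  classical
  let E : Extension.{u} R S := { Ring := P, σ := _, algebraMap_σ := Function.surjInv_eq hsurj }
  haveI : Nontrivial P := (algebraMap P S).domain_nontrivial
  haveI : FormallySmooth R E.Ring := ‹_›
  haveI : Module.Free E.Ring Ω[E.Ring⁄R] := ‹Module.Free P Ω[P⁄R]›
  haveI : Module.Finite E.Ring Ω[E.Ring⁄R] := ‹Module.Finite P Ω[P⁄R]›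
  have hEker : Ideal.span (Set.range x) = E.ker := hker.symm
  have hfg : E.ker.FG := hEker ▸ Submodule.fg_span (Set.finite_range x)
  rw [FormallySmooth.iff_injective_lTensor_residueField E hfg]
  let v : Fin c → E.Cotangent := fun i => Extension.Cotangent.mk ⟨x i, hEker.le (Ideal.subset_span ⟨i, rfl⟩)⟩
  have hv : Submodule.span S (Set.range v) = ⊤ :=
    Extension.Cotangent.span_eq_top_of_span_eq_ker (P := E) x hEker
  have hli : LinearIndependent S v := by
    rw [Fintype.linearIndependent_iff]
    intro g hg i
    choose a ha using fun i => hsurj (g i)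
    have hsum : (∑ i, a i • (⟨x i, hEker.le (Ideal.subset_span ⟨i, rfl⟩)⟩ : E.ker) : E.ker).1 ∈ E.ker ^ 2 := by
      rw [← Extension.Cotangent.mk_eq_zero_iff, map_sum]
      refine Eq.trans ?_ hg
      refine Finset.sum_congr rfl fun i _ => ?_
      rw [map_smul, ← ha i, algebraMap_smul]
    have hmem : ∑ i, a i * x i ∈ Ideal.span (Set.range x) ^ 2 := by
      rw [hEker]; simpa using hsum
    have := coeff_mem_of_sum_mem_sq x hreg a hmem i
    rw [← hker, RingHom.mem_ker] at this
    rw [← ha i, this]
  let bCot : Module.Basis (Fin c) S E.Cotangent := Module.Basis.mk hli hv.ge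
  let bΩ : Module.Basis (Fin N) P Ω[P⁄R] := Module.finBasisOfFinrankEq P _ hN
  let bSp : Module.Basis (Fin N) S E.CotangentSpace := bΩ.baseChange S
  let κ := ResidueField S
  let φ := E.cotangentComplex.baseChange κ
  let π := E.toKaehler.baseChange κ
  have hex : Function.Exact φ π :=
    lTensor_exact κ E.exact_cotangentComplex_toKaehler E.toKaehler_surjective
  have hπ : Function.Surjective π := LinearMap.lTensor_surjective κ E.toKaehler_surjective
  haveI : Module.Finite κ (κ ⊗[S] E.Cotangent) := Module.Finite.of_basis (bCot.baseChange κ)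
  haveI : Module.Finite κ (κ ⊗[S] E.CotangentSpace) := Module.Finite.of_basis (bSp.baseChange κ)
  have hc : Module.finrank κ (κ ⊗[S] E.Cotangent) = c := by
    rw [Module.finrank_eq_card_basis (bCot.baseChange κ), Fintype.card_fin]
  have hsp : Module.finrank κ (κ ⊗[S] E.CotangentSpace) = N := by
    rw [Module.finrank_eq_card_basis (bSp.baseChange κ), Fintype.card_fin]
  have h1 := LinearMap.finrank_range_add_finrank_ker π
  have h2 := LinearMap.finrank_range_add_finrank_ker φ
  rw [LinearMap.range_eq_top.2 hπ, finrank_top, hex.linearMap_ker_eq, hsp] at h1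
  rw [hc] at h2
  show Function.Injective φ ↔ _
  rw [← LinearMap.ker_eq_bot, ← Submodule.finrank_eq_zero]
  change Module.finrank κ (LinearMap.ker φ) = 0 ↔ Module.finrank κ (κ ⊗[S] Ω[S⁄R]) ≤ m
  omega

end Local

/-- The criterion for a quotient of a standard smooth algebra. -/
theorem isSmoothAt_iff_fitting {A C B : Type u} [CommRing A] [CommRing C] [CommRing B] [Algebra A C] [Algebra A B]
    {m c : ℕ} [Algebra.IsStandardSmoothOfRelativeDimension (m + c) A C]
    (ψ : C →ₐ[A] B) (hψ : Function.Surjective ψ) (x : Fin c → C)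
    (hker : RingHom.ker ψ.toRingHom = Ideal.span (Set.range x)) (hreg : CAlgX.IsH1Regular x)
    (q : Ideal B) [q.IsPrime] :
    Algebra.IsSmoothAt A q ↔ ¬ Fitt.ideal B (KaehlerDifferential A B) m ≤ q := by
  haveI := Algebra.IsStandardSmoothOfRelativeDimension.isStandardSmooth (m + c) (R := A) (S := C)
  haveI : Algebra.FiniteType A B :=
    Algebra.FiniteType.of_surjective ψ hψ
  let p : Ideal C := q.comap ψ.toRingHom
  let P := Localization.AtPrime p
  let S := Localization.AtPrime q
  letI := (Localization.localRingHom p q ψ.toRingHom rfl).toAlgebra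
  have hto : ∀ a : C, algebraMap P S (algebraMap C P a) = algebraMap B S (ψ a) := fun a =>
    Localization.localRingHom_to_map p q ψ.toRingHom rfl a
  haveI : IsScalarTower A P S := IsScalarTower.of_algebraMap_eq fun a => by
    rw [IsScalarTower.algebraMap_apply A C P, hto, AlgHom.commutes, ← IsScalarTower.algebraMap_apply]
  haveI : Algebra.FormallyEtale C P := Algebra.FormallyEtale.of_isLocalization p.primeCompl
  haveI : Algebra.FormallySmooth A P := Algebra.FormallySmooth.comp A C P
  haveI : Nontrivial C := (algebraMap C P).domain_nontrivial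
  have hrC := Algebra.IsStandardSmoothOfRelativeDimension.rank_kaehlerDifferential (R := A) (S := C) (m + c)
  haveI : Module.Finite C (KaehlerDifferential A C) := Module.finite_of_rank_eq_nat hrC
  let bC := Module.finBasisOfFinrankEq C (KaehlerDifferential A C) (Module.finrank_eq_of_rank_eq hrC)
  let bP : Module.Basis (Fin (m + c)) P (KaehlerDifferential A P) :=
    bC.ofIsLocalizedModule P p.primeCompl (KaehlerDifferential.map A A C P)
  haveI : Module.Free P (KaehlerDifferential A P) := Module.Free.of_basis bP
  haveI : Module.Finite P (KaehlerDifferential A P) := Module.Finite.of_basis bP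
  have hN : Module.finrank P (KaehlerDifferential A P) = m + c := by
    rw [Module.finrank_eq_card_basis bP, Fintype.card_fin]
  have hmk : ∀ (a : C) (s : p.primeCompl), algebraMap P S (IsLocalization.mk' P a s) =
      IsLocalization.mk' S (ψ a) (⟨ψ s.1, s.2⟩ : q.primeCompl) := fun a s =>
    Localization.localRingHom_mk' p q ψ.toRingHom rfl a s
  have hsurj : Function.Surjective (algebraMap P S) := fun z => by
    obtain ⟨b, t, rfl⟩ := IsLocalization.exists_mk'_eq q.primeCompl z
    obtain ⟨a, rfl⟩ := hψ b
    obtain ⟨s, hs⟩ := hψ t.1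
    refine ⟨IsLocalization.mk' P a (⟨s, fun h => t.2 (hs ▸ h)⟩ : p.primeCompl), ?_⟩
    rw [hmk]
    exact congrArg _ (Subtype.ext hs)
  have hkerP : RingHom.ker (algebraMap P S) = Ideal.span (Set.range fun i => algebraMap C P (x i)) := by
    rw [Set.range_comp', ← Ideal.map_span, ← hker]
    refine le_antisymm (fun z hz => ?_) (Ideal.map_le_iff_le_comap.2 fun a ha => ?_)
    · obtain ⟨a, s, rfl⟩ := IsLocalization.exists_mk'_eq p.primeCompl z
      rw [RingHom.mem_ker, hmk, IsLocalization.mk'_eq_zero_iff] at hz
      obtain ⟨t, ht⟩ := hz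
      obtain ⟨t', ht'⟩ := hψ t.1
      let t'' : p.primeCompl := ⟨t', fun h => t.2 (ht' ▸ h)⟩
      rw [← IsLocalization.mk'_cancel (S := P) a s t'', IsLocalization.mk'_eq_mul_mk'_one]
      refine Ideal.mul_mem_right _ _ (Ideal.mem_map_of_mem _ ?_)
      show ψ (a * t') = 0
      rw [map_mul, ht', mul_comm]
      exact ht
    · show algebraMap P S (algebraMap C P a) = 0
      rw [hto]
      exact (congrArg _ (RingHom.mem_ker.1 ha)).trans (map_zero _)
  have hflat : (algebraMap C P).Flat := RingHom.flat_algebraMap_iff.2 (IsLocalization.flat P p.primeCompl)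
  have hregP : CAlgX.IsH1Regular (fun i => algebraMap C P (x i)) :=
    GrothLib.SeqKinds.isH1Regular_map _ hflat x hreg
  have key := formallySmooth_iff_finrank_le (R := A) hsurj _ hkerP hregP hN m rfl
  rw [GrothLib.Fitting.not_le_iff_finrank_fiber_le (M := KaehlerDifferential A B) m q]
  refine key.trans ?_
  let e : S ⊗[B] KaehlerDifferential A B ≃ₗ[S] KaehlerDifferential A S :=
    (IsLocalizedModule.isBaseChange q.primeCompl S (KaehlerDifferential.map A A B S)).equiv
  rw [← ((LinearEquiv.baseChange S (ResidueField S) _ _ e).symm.trans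
    (AlgebraTensorModule.cancelBaseChange B S (ResidueField S) (ResidueField S) _)).finrank_eq]

end GrothLib.JacLocus
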